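import Cfsg.Agent.H702.RealTable
import Cfsg.Agent.Blocks.Orthogonality
import Cfsg.Agent.Blocks.Osima
import Cfsg.Agent.Blocks.Local
import Cfsg.Agent.Characters.Core
import Cfsg.Agent.Characters.GaloisBasic
import Cfsg.Agent.Classification.TypeZIV.Parity
import Cfsg.Prelude.Def_ParabolicCharacters
import Cfsg.Agent.S4860
import Cfsg.Agent.FastGrp
import Cfsg.Agent.Prune
set_option linter.all false

section
prune_inst 0x7f00000000000000000000000000000000000000000000000000000000000000000000000000000000000000000000000000000000000000000000000000000000000000000000000000000000000000003ffff7ffffffffffffffffffffffbeffbdebfeffff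

-- part: H139/RealB0/Crit
section
set_option linter.all false
open scoped Cfsg.Agent.FastGrp

/-!
# Criteria for a nontrivial real-valued character in the principal `p`-block (helper139)

`HasReal p S` is the interface of `H702/RealB0.lean`.

* `of_real_element` (T1): an element of order divisible by `p` which is conjugate to its inverse;
* `of_two_element` (T1'): `p` odd, a 2-element which normalises but does not centralise a `p`-subgroup;
* `exists_constituent`: `p ∣ H.index` gives `χ ∈ B₀`, `χ ≠ 1`, with `∑ h ∈ H, χ h ≠ 0`;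
* `of_constituents` (T2): `p ∣ H.index` and all constituents of `1_H^S` are real-valued;
* `real_of_sum_real`: a constituent `χ` of `1_H^S` is real-valued if all the sums
  `∑ h ∈ H, χ (x * h)` are real;
* `of_selfpaired`, `of_symm_action`: all orbitals self-paired;
* `of_two_pow`, `of_symm_action'`, `of_constituents'`: the same with other forms of the hypotheses;
* `of_character` (T3): a character with real-valued constituents, orthogonal to `1`, whose sum over the `p`-regular
  elements is not zero.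
-/

set_option autoImplicit false
set_option linter.unusedSectionVars false

open Cfsg
open scoped ComplexConjugate

namespace Cfsg.Agent.H139.RealB0.Crit

open Cfsg.Agent.Characters.Core Cfsg.Agent.H702.RealB0 Cfsg.Agent.Blocks.Local

universe u

/-- A sum over an involution without fixed points is twice an element of the subring. -/
theorem exists_two_mul {ι R : Type*} [DecidableEq ι] [CommRing R] (A : Subring R) (τ : ι → ι)
    (f : ι → R) : ∀ (n : ℕ) (s : Finset ι), s.card = n → (∀ i ∈ s, τ i ∈ s) → (∀ i ∈ s, τ (τ i) = i) →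
    (∀ i ∈ s, τ i ≠ i) → (∀ i ∈ s, f i ∈ A) → (∀ i ∈ s, f (τ i) = f i) →
    ∃ z ∈ A, ∑ i ∈ s, f i = 2 * z := by
  intro n
  induction n using Nat.strong_induction_on with
  | _ n ih =>
  intro s hs h1 h2 h3 hf hft
  rcases s.eq_empty_or_nonempty with rfl | ⟨i, hi⟩
  · exact ⟨0, A.zero_mem, by simp⟩
  · have hti : τ i ∈ s.erase i := Finset.mem_erase.2 ⟨h3 i hi, h1 i hi⟩
    obtain ⟨z, hz, e⟩ := ih ((s.erase i).erase (τ i)).card (by
        rw [← hs]
        exact Finset.card_lt_card ((Finset.erase_ssubset hti).trans_subset (Finset.erase_subset _ _)))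
      ((s.erase i).erase (τ i)) rfl
      (fun j hj => by
        obtain ⟨h4, h5⟩ := Finset.mem_erase.1 hj
        obtain ⟨h6, h7⟩ := Finset.mem_erase.1 h5
        refine Finset.mem_erase.2 ⟨fun h => h6 ?_, Finset.mem_erase.2 ⟨fun h => h4 ?_, h1 j h7⟩⟩
        · rw [← h2 j h7, h, h2 i hi]
        · rw [← h, h2 j h7])
      (fun j hj => h2 j (Finset.mem_of_mem_erase (Finset.mem_of_mem_erase hj)))
      (fun j hj => h3 j (Finset.mem_of_mem_erase (Finset.mem_of_mem_erase hj)))
      (fun j hj => hf j (Finset.mem_of_mem_erase (Finset.mem_of_mem_erase hj)))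
      (fun j hj => hft j (Finset.mem_of_mem_erase (Finset.mem_of_mem_erase hj)))
    refine ⟨f i + z, A.add_mem (hf i hi) hz, ?_⟩
    rw [← Finset.add_sum_erase _ _ hi, ← Finset.add_sum_erase _ _ hti, e, hft i hi]
    ring

/-- `1 + 2 z = 0` is impossible for an algebraic integer `z`. -/
theorem one_add_two_mul_ne {z : ℂ} (hz : IsIntegral ℤ z) : 1 + 2 * z ≠ 0 := by
  intro h
  have h1 : z = (((-1 / 2 : ℚ) : ℚ) : ℂ) := by
    push_cast
    linear_combination h / 2
  have h2 : IsIntegral ℤ ((-1 / 2 : ℚ)) := by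
    rw [h1] at hz
    exact (isIntegral_algebraMap_iff (algebraMap ℚ ℂ).injective).1 hz
  obtain ⟨n, hn⟩ := IsIntegrallyClosed.isIntegral_iff.1 h2
  have h3 : (n : ℚ) = -1 / 2 := hn
  have h4 : ((2 * n : ℤ) : ℚ) = ((-1 : ℤ) : ℚ) := by push_cast; linarith
  have h5 : (2 * n : ℤ) = -1 := by exact_mod_cast h4
  omega

section Bar

variable {S : Type u} [Group S] [Finite S]

/-- The complex conjugate of an irreducible character. -/
noncomputable def bar (χ : IrrCharacter S) : IrrCharacter S := ⟨fun g => conj ((χ : S → ℂ) g), isIrr_conj χ.2⟩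

theorem bar_apply (χ : IrrCharacter S) (g : S) : (bar χ : S → ℂ) g = conj ((χ : S → ℂ) g) := rfl

theorem bar_bar (χ : IrrCharacter S) : bar (bar χ) = χ := by
  apply Subtype.ext
  funext g
  show conj (conj ((χ : S → ℂ) g)) = _
  exact Complex.conj_conj _

theorem bar_eq_iff (χ : IrrCharacter S) : bar χ = χ ↔ ∀ g, ((χ : S → ℂ) g).im = 0 := by
  constructor
  · intro h g
    have h1 := congrFun (congrArg Subtype.val h) g
    exact Complex.conj_eq_iff_im.1 h1
  · intro h
    apply Subtype.ext
    funext g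
    exact Complex.conj_eq_iff_im.2 (h g)

theorem centralChar_bar (χ : IrrCharacter S) (g : S) :
    centralChar (bar χ : S → ℂ) g = centralChar (χ : S → ℂ) g⁻¹ := by
  unfold centralChar
  have h1 : Subgroup.centralizer ({g⁻¹} : Set S) = Subgroup.centralizer ({g} : Set S) := by
    ext x
    rw [Subgroup.mem_centralizer_singleton_iff, Subgroup.mem_centralizer_singleton_iff]
    constructor
    · intro h
      have h2 : g * (g⁻¹ * x) * g = g * (x * g⁻¹) * g := by rw [h]
      simpa [mul_assoc] using h2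
    · intro h
      have h2 : g⁻¹ * (g * x) * g⁻¹ = g⁻¹ * (x * g) * g⁻¹ := by rw [h]
      simpa [mul_assoc] using h2
  rw [h1, bar_apply, bar_apply, isCharacter_apply_inv (isIrr_isCharacter χ.2) g]
  congr 1
  rw [← isCharacter_apply_inv (isIrr_isCharacter χ.2) 1, inv_one]

theorem bar_mem {M : Ideal AlgInt} {χ : IrrCharacter S} (h : χ ∈ principalBlock M S) :
    bar χ ∈ principalBlock M S := by
  intro g
  have h1 := h g⁻¹
  rw [centralChar_bar]
  have h2 : centralChar (fun _ : S => (1 : ℂ)) g = centralChar (fun _ : S => (1 : ℂ)) g⁻¹ := by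
    have h3 := centralChar_bar (S := S) ⟨fun _ => 1, isIrr_one⟩ g
    have h4 : ((bar (S := S) ⟨fun _ => 1, isIrr_one⟩ : IrrCharacter S) : S → ℂ) = fun _ => (1 : ℂ) := by
      funext x
      rw [bar_apply]
      exact map_one _
    rw [h4] at h3
    exact h3
  rw [h2]
  exact h1

end Bar

section T1

variable {S : Type u} [Group S] [Finite S]

/-- **Criterion T1**: a real element of order divisible by `p`. -/
theorem of_real_element {p : ℕ} (g : S) (hg : p ∣ orderOf g) (hr : IsConj g g⁻¹) : HasReal p S := by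
  classical
  intro M hM
  by_contra hcon
  push Not at hcon
  have hMp : M.IsPrime := isPrime_of_isPModular hM
  have hB : IsPBlock M (principalBlock M S) := ⟨⟨_, isIrr_one⟩, rfl⟩
  have hfin : Finite (IrrCharacter S) := finite_irr
  have hft : Fintype (IrrCharacter S) := Fintype.ofFinite _
  have h1 := Cfsg.Agent.Blocks.Orthogonality.weak_block_orthogonality hM (principalBlock M S)
    (Cfsg.Agent.Blocks.Osima.memLocalRing_blockCoeff hM hB) (x := 1) (y := g)
    (by rw [orderOf_one]; exact hM.1.one_lt.not_ge ∘ Nat.le_of_dvd one_pos) hg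
  rw [Cfsg.Agent.Blocks.Orthogonality.finsum_mem_eq_sum_filter] at h1
  set one : IrrCharacter S := ⟨fun _ => 1, isIrr_one⟩ with hone
  have hmem : one ∈ (Finset.univ.filter fun χ : IrrCharacter S => χ ∈ principalBlock M S) :=
    Finset.mem_filter.2 ⟨Finset.mem_univ _, Cfsg.Agent.Blocks.Basic.sameBlock_refl _⟩
  rw [← Finset.add_sum_erase _ _ hmem] at h1
  have hone1 : (one : S → ℂ) 1 * conj ((one : S → ℂ) g) = 1 := by
    show (1 : ℂ) * conj (1 : ℂ) = 1
    rw [map_one, mul_one]
  rw [hone1] at h1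
  have hne : ∀ χ ∈ (Finset.univ.filter fun χ : IrrCharacter S => χ ∈ principalBlock M S).erase one,
      χ ∈ principalBlock M S ∧ (χ : S → ℂ) ≠ fun _ => (1 : ℂ) := by
    intro χ hχ
    obtain ⟨h2, h3⟩ := Finset.mem_erase.1 hχ
    exact ⟨(Finset.mem_filter.1 h3).2, fun h => h2 (Subtype.ext h)⟩
  have hbar1 : bar one = one := by
    apply Subtype.ext
    funext x
    exact map_one _
  have hval : ∀ χ : IrrCharacter S, conj ((χ : S → ℂ) g) = (χ : S → ℂ) g := by
    intro χ
    rw [← isCharacter_apply_inv (isIrr_isCharacter χ.2)]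
    obtain ⟨c, hc⟩ := isConj_iff.1 hr
    rw [← hc]
    exact isIrr_isClassFunction χ.2 g c
  obtain ⟨z, hz, e⟩ := exists_two_mul ((integralClosure ℤ ℂ).toSubring) bar
    (fun χ : IrrCharacter S => (χ : S → ℂ) 1 * conj ((χ : S → ℂ) g)) _
    ((Finset.univ.filter fun χ : IrrCharacter S => χ ∈ principalBlock M S).erase one) rfl
    (fun χ hχ => by
      obtain ⟨h2, h3⟩ := Finset.mem_erase.1 hχ
      refine Finset.mem_erase.2 ⟨fun h => h2 ?_, Finset.mem_filter.2 ⟨Finset.mem_univ _,
        bar_mem (Finset.mem_filter.1 h3).2⟩⟩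
      rw [← bar_bar χ, h, hbar1])
    (fun χ _ => bar_bar χ)
    (fun χ hχ h => by
      obtain ⟨h2, h3⟩ := hne χ hχ
      obtain ⟨x, hx⟩ := hcon χ h2 h3
      exact hx ((bar_eq_iff χ).1 h x))
    (fun χ _ => by
      have h2 := Cfsg.Agent.Characters.GaloisBasic.isIntegral_apply (isIrr_isCharacter χ.2) 1
      have h3 := Cfsg.Agent.Characters.GaloisBasic.isIntegral_apply (isIrr_isCharacter χ.2) g
      show IsIntegral ℤ _
      rw [hval]
      exact h2.mul h3)
    (fun χ _ => by
      show (bar χ : S → ℂ) 1 * conj ((bar χ : S → ℂ) g) = _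
      rw [bar_apply, bar_apply, ← isCharacter_apply_inv (isIrr_isCharacter χ.2) 1, inv_one, hval, hval])
  rw [e] at h1
  exact one_add_two_mul_ne hz h1

/-- A `2`-element which normalises but does not centralise a `p`-subgroup (`p` odd) inverts a
nontrivial element of it after a conjugation. -/
theorem exists_inverted {Q : Subgroup S} {y : S}
    (hy : ∃ k : ℕ, orderOf y = 2 ^ k) (hn : ∀ x ∈ Q, y * x * y⁻¹ ∈ Q)
    (hc : ∃ x ∈ Q, y * x ≠ x * y) : ∃ u ∈ Q, u ≠ 1 ∧ IsConj u u⁻¹ := by
  classical
  obtain ⟨k, hk⟩ := hy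
  have hex : ∃ j : ℕ, ∀ x ∈ Q, y ^ 2 ^ j * x = x * y ^ 2 ^ j := by
    refine ⟨k, fun x _ => ?_⟩
    rw [← hk, pow_orderOf_eq_one, one_mul, mul_one]
  set j := Nat.find hex with hj
  have hj1 : ∀ x ∈ Q, y ^ 2 ^ j * x = x * y ^ 2 ^ j := Nat.find_spec hex
  have hj0 : j ≠ 0 := by
    intro h0
    obtain ⟨x, hx, hne⟩ := hc
    apply hne
    have := hj1 x hx
    rwa [h0, pow_zero, pow_one] at this
  obtain ⟨i, hi⟩ := Nat.exists_eq_succ_of_ne_zero hj0
  have hi1 : ¬ ∀ x ∈ Q, y ^ 2 ^ i * x = x * y ^ 2 ^ i := Nat.find_min hex (by omega)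
  push Not at hi1
  obtain ⟨x, hx, hne⟩ := hi1
  have hnz : ∀ m : ℕ, ∀ x ∈ Q, y ^ m * x * (y ^ m)⁻¹ ∈ Q := by
    intro m
    induction m with
    | zero => intro x hx; simpa using hx
    | succ m ih =>
      intro x hx
      have h1 : y ^ (m + 1) * x * (y ^ (m + 1))⁻¹ = y * (y ^ m * x * (y ^ m)⁻¹) * y⁻¹ := by
        rw [pow_succ']; group
      rw [h1]
      exact hn _ (ih x hx)
  set z := y ^ 2 ^ i with hz
  have hzz : z * z = y ^ 2 ^ j := by
    rw [hz, ← pow_add, hi]
    congr 1
    rw [Nat.succ_eq_add_one, pow_succ]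
    ring
  refine ⟨x⁻¹ * (z * x * z⁻¹), mul_mem (inv_mem hx) (hnz _ x hx), ?_, ?_⟩
  · intro h
    apply hne
    have h1 : z * x * z⁻¹ = x := (inv_mul_eq_one.1 h).symm
    calc z * x = z * x * z⁻¹ * z := by group
      _ = x * z := by rw [h1]
  · rw [isConj_iff]
    refine ⟨z, ?_⟩
    have h2 : z * z * x * (z * z)⁻¹ = x := by
      rw [hzz, hj1 x hx, mul_inv_cancel_right]
    calc z * (x⁻¹ * (z * x * z⁻¹)) * z⁻¹ = (z * x * z⁻¹)⁻¹ * (z * z * x * (z * z)⁻¹) := by group
      _ = (z * x * z⁻¹)⁻¹ * x := by rw [h2]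
      _ = (x⁻¹ * (z * x * z⁻¹))⁻¹ := by group

/-- **Criterion T1'**: a `2`-element which normalises but does not centralise a `p`-subgroup. -/
theorem of_two_element {p : ℕ} [Fact p.Prime] (Q : Subgroup S) (hQ : IsPGroup p Q) (y : S)
    (hy : ∃ k : ℕ, orderOf y = 2 ^ k) (hn : ∀ x ∈ Q, y * x * y⁻¹ ∈ Q)
    (hc : ∃ x ∈ Q, y * x ≠ x * y) : HasReal p S := by
  obtain ⟨u, hu, hu1, hur⟩ := exists_inverted hy hn hc
  refine of_real_element u ?_ hur
  obtain ⟨k, hk⟩ := IsPGroup.iff_orderOf.1 hQ ⟨u, hu⟩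
  rw [Subgroup.orderOf_mk] at hk
  rw [hk]
  refine dvd_pow_self p fun h0 => hu1 ?_
  rw [h0, pow_zero, orderOf_eq_one_iff] at hk
  exact hk

end T1

section T2

variable {S : Type u} [Group S] [Finite S]

/-- If `p` divides the index of `H` then a nontrivial member of the principal block is a constituent
of the permutation character. -/
theorem exists_constituent {p : ℕ} {M : Ideal AlgInt} (hM : IsPModular p M) (H : Subgroup S) [Fintype H]
    (hp : p ∣ H.index) :
    ∃ χ : IrrCharacter S, χ ∈ principalBlock M S ∧ ((χ : S → ℂ) ≠ fun _ => (1 : ℂ)) ∧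
      ∑ h : H, (χ : S → ℂ) h ≠ 0 := by
  classical
  by_contra hcon
  push Not at hcon
  have hMp : M.IsPrime := isPrime_of_isPModular hM
  have hB : IsPBlock M (principalBlock M S) := ⟨⟨_, isIrr_one⟩, rfl⟩
  have hfin : Finite (IrrCharacter S) := finite_irr
  have hft : Fintype (IrrCharacter S) := Fintype.ofFinite _
  set one : IrrCharacter S := ⟨fun _ => 1, isIrr_one⟩ with hone
  have hmem : one ∈ principalBlock M S := Cfsg.Agent.Blocks.Basic.sameBlock_refl _
  have h1 : MemLocalRing M (∑ h : H, blockCoeff (principalBlock M S) (h : S)) :=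
    memLocalRing_sum fun h _ => Cfsg.Agent.Blocks.Osima.memLocalRing_blockCoeff hM hB _
  have h2 : ∑ h : H, blockCoeff (principalBlock M S) (h : S) = (H.index : ℂ)⁻¹ := by
    have h3 : ∀ h : H, blockCoeff (principalBlock M S) (h : S) = (Nat.card S : ℂ)⁻¹ *
        ∑ χ : IrrCharacter S, if χ ∈ principalBlock M S then (χ : S → ℂ) 1 * conj ((χ : S → ℂ) h) else 0 :=
      fun h => Cfsg.Agent.Blocks.Osima.blockCoeff_eq_sum _ _
    rw [Finset.sum_congr rfl fun h _ => h3 h, ← Finset.mul_sum, Finset.sum_comm]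
    rw [Finset.sum_eq_single one]
    · have h4 : ∀ h : H, (if one ∈ principalBlock M S then (one : S → ℂ) 1 * conj ((one : S → ℂ) h) else 0) =
          (1 : ℂ) := by
        intro h
        rw [if_pos hmem]
        show (1 : ℂ) * conj (1 : ℂ) = 1
        rw [map_one, mul_one]
      rw [Finset.sum_congr rfl fun h _ => h4 h, Finset.sum_const, Finset.card_univ, nsmul_eq_mul, mul_one,
        ← Nat.card_eq_fintype_card, ← Subgroup.index_mul_card H]
      have h5 : (Nat.card H : ℂ) ≠ 0 := by exact_mod_cast Nat.card_pos.ne'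
      push_cast
      rw [mul_inv, mul_assoc, inv_mul_cancel₀ h5, mul_one]
    · intro χ _ hχ
      by_cases hχB : χ ∈ principalBlock M S
      · simp only [if_pos hχB]
        rw [← Finset.mul_sum, ← map_sum, hcon χ hχB fun h => hχ (Subtype.ext h), map_zero, mul_zero]
      · simp only [if_neg hχB]
        exact Finset.sum_const_zero
    · intro h
      exact absurd (Finset.mem_univ _) h
  rw [h2] at h1
  have h3 : MemLocalIdeal M (H.index : ℂ) := (memLocalIdeal_natCast_iff hM _).2 hp
  have h4 := memLocalIdeal_mul_left h1 h3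
  have h5 : (H.index : ℂ) ≠ 0 := by exact_mod_cast Subgroup.index_ne_zero_of_finite
  rw [inv_mul_cancel₀ h5] at h4
  exact not_memLocalIdeal_one h4

/-- **Criterion T2**: `p ∣ |S : H|` and every irreducible constituent of the permutation character on
the cosets of `H` is real-valued. -/
theorem of_constituents {p : ℕ} (H : Subgroup S) [Fintype H] (hp : p ∣ H.index)
    (hr : ∀ χ : IrrCharacter S, ∑ h : H, (χ : S → ℂ) h ≠ 0 → ∀ g : S, ((χ : S → ℂ) g).im = 0) :
    HasReal p S := by
  intro M hM
  obtain ⟨χ, h1, h2, h3⟩ := exists_constituent hM H hp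
  exact ⟨χ, h1, h2, hr χ h3⟩

/-- A constituent of the permutation character on the cosets of `H` is real-valued if all its sums over the left cosets
of `H` are real. -/
theorem real_of_sum_real (H : Subgroup S) [Fintype H] (χ : IrrCharacter S) (h0 : ∑ h : H, (χ : S → ℂ) h ≠ 0)
    (hF : ∀ x : S, conj (∑ h : H, (χ : S → ℂ) (x * h)) = ∑ h : H, (χ : S → ℂ) (x * h)) :
    ∀ g : S, ((χ : S → ℂ) g).im = 0 := by
  classical
  have hS : Fintype S := Fintype.ofFinite S
  by_contra hcon
  have hne : bar χ ≠ χ := fun h => hcon ((bar_eq_iff χ).1 h)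
  have hcl := isIrr_isClassFunction χ.2
  have hsw : ∀ x h : S, (χ : S → ℂ) (x * h) = (χ : S → ℂ) (h * x) := by
    intro x h
    have h1 := hcl (x * h) h
    rw [← h1]
    group
  have h1 : ∑ x : S, (∑ h : H, (χ : S → ℂ) (x * h)) * conj ((χ : S → ℂ) x) =
      (∑ y, (χ : S → ℂ) y * conj ((χ : S → ℂ) y)) / (χ : S → ℂ) 1 * ∑ h : H, (χ : S → ℂ) h := by
    simp_rw [Finset.sum_mul]
    rw [Finset.sum_comm, Finset.mul_sum]
    refine Finset.sum_congr rfl fun h _ => ?_
    rw [← Cfsg.Agent.Classification.TypeZIV.Parity.sum_conv hcl χ.2 (h : S)]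
    exact Finset.sum_congr rfl fun x _ => by rw [hsw]
  have h2 : ∑ x : S, (∑ h : H, (χ : S → ℂ) (x * h)) * conj ((bar χ : S → ℂ) x) = 0 := by
    simp_rw [Finset.sum_mul]
    rw [Finset.sum_comm]
    refine Finset.sum_eq_zero fun h _ => ?_
    have h3 := Cfsg.Agent.Classification.TypeZIV.Parity.sum_conv hcl (bar χ).2 (h : S)
    have h4 : ∑ y, (χ : S → ℂ) y * conj ((bar χ : S → ℂ) y) = 0 := by
      have h5 := classInner_irr_ne χ.2 (bar χ).2 fun h => hne (Subtype.ext h.symm)
      rw [classInner_def] at h5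
      exact (mul_eq_zero.1 h5).resolve_left (inv_ne_zero card_ne_zero_complex)
    rw [h4, zero_div, zero_mul] at h3
    rw [← h3]
    exact Finset.sum_congr rfl fun x _ => by rw [hsw]
  have h3 : ∑ x : S, (∑ h : H, (χ : S → ℂ) (x * h)) * conj ((χ : S → ℂ) x) = 0 := by
    have h4 : conj (∑ x : S, (∑ h : H, (χ : S → ℂ) (x * h)) * conj ((χ : S → ℂ) x)) = 0 := by
      rw [map_sum, ← h2]
      refine Finset.sum_congr rfl fun x _ => ?_
      rw [map_mul, hF, bar_apply]
    exact (map_eq_zero _).1 h4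
  rw [h1] at h3
  refine mul_ne_zero (div_ne_zero ?_ (isIrr_apply_one_ne_zero χ.2)) h0 h3
  intro h4
  have h5 := classInner_irr_self χ.2
  rw [classInner_def, h4, mul_zero] at h5
  exact zero_ne_one h5

/-- **Criterion T2 for self-paired orbitals**: `x⁻¹ ∈ H x H` for all `x`. -/
theorem of_selfpaired {p : ℕ} (H : Subgroup S) (hp : p ∣ H.index)
    (hs : ∀ x : S, ∃ a ∈ H, ∃ b ∈ H, x⁻¹ = a * x * b) : HasReal p S := by
  classical
  have hH : Fintype H := Fintype.ofFinite H
  refine of_constituents H hp fun χ h0 => real_of_sum_real H χ h0 fun x => ?_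
  have hcl := isIrr_isClassFunction χ.2
  have h1 : conj (∑ h : H, (χ : S → ℂ) (x * h)) = ∑ h : H, (χ : S → ℂ) (x⁻¹ * h) := by
    rw [map_sum]
    refine Fintype.sum_equiv (Equiv.inv H) _ _ fun h => ?_
    rw [← isCharacter_apply_inv (isIrr_isCharacter χ.2), Equiv.inv_apply, mul_inv_rev, InvMemClass.coe_inv]
    have h2 := hcl ((h : S)⁻¹ * x⁻¹) (h : S)
    rw [← h2]
    group
  obtain ⟨a, ha, b, hb, e⟩ := hs x
  rw [h1, e]
  have h3 : ∑ h : H, (χ : S → ℂ) (a * x * b * h) = ∑ h : H, (χ : S → ℂ) (a * x * h) := by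
    refine Fintype.sum_equiv (Equiv.mulLeft (⟨b, hb⟩ : H)) _ _ fun h => ?_
    rw [Equiv.coe_mulLeft, Subgroup.coe_mul, ← mul_assoc]
  rw [h3]
  refine Fintype.sum_equiv (Equiv.mulRight (⟨a, ha⟩ : H)) _ _ fun h => ?_
  rw [Equiv.coe_mulRight, Subgroup.coe_mul]
  have h2 := hcl (a * x * h) a⁻¹
  rw [← h2]
  group

/-- **Criterion T2'**: a transitive action on a set of cardinality divisible by `p` in which any two points are
interchanged by some element. -/
theorem of_symm_action {p : ℕ} (X : Type*) [MulAction S X] (x₀ : X) (hp : p ∣ Nat.card X)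
    (hs : ∀ x y : X, ∃ g : S, g • x = y ∧ g • y = x) : HasReal p S := by
  refine of_selfpaired (MulAction.stabilizer S x₀) ?_ fun x => ?_
  · have h1 : Nat.card X = (MulAction.stabilizer S x₀).index := by
      have htr : MulAction.orbit S x₀ = Set.univ :=
        Set.eq_univ_of_forall fun y => by
          obtain ⟨g, hg, -⟩ := hs x₀ y
          exact ⟨g, hg⟩
      rw [MulAction.index_stabilizer, htr, Set.ncard_univ]
    rwa [← h1]
  · obtain ⟨a, ha1, ha2⟩ := hs x₀ (x • x₀)
    refine ⟨(a * x)⁻¹, inv_mem (by rw [MulAction.mem_stabilizer_iff, mul_smul, ha2]), x⁻¹ * a, ?_, ?_⟩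
    · rw [MulAction.mem_stabilizer_iff, mul_smul, ha1, inv_smul_smul]
    · group

end T2

section Alias

universe v

variable {S : Type u} [Group S] [Finite S]

/-- **Criterion T2'**: any two points are interchanged by some element, `p ∣ |X|`. -/
theorem of_symm_action' {p : ℕ} {X : Type v} [MulAction S X] [Finite X] [hX0 : Nonempty X] (hX : p ∣ Nat.card X)
    (hsw : ∀ x y : X, ∃ g : S, g • x = y ∧ g • y = x) : HasReal p S := by
  obtain ⟨x₀⟩ := hX0
  exact of_symm_action X x₀ hX hsw

/-- `[1_H^S, χ]` is the mean value of the conjugate of `χ` on `H`. -/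
theorem classInner_fixedPointCharacter [Fintype S] (H : Subgroup S) [Fintype H] (χ : IrrCharacter S) :
    classInner (fixedPointCharacter H) (χ : S → ℂ) = (Nat.card H : ℂ)⁻¹ * ∑ h : H, conj ((χ : S → ℂ) h) := by
  classical
  have hQ : Fintype (S ⧸ H) := Fintype.ofFinite _
  have hcl := isIrr_isClassFunction χ.2
  rw [classInner_def]
  have h1 : ∀ g : S, fixedPointCharacter H g * conj ((χ : S → ℂ) g) =
      ∑ x : S ⧸ H, if g • x = x then conj ((χ : S → ℂ) g) else 0 := by
    intro g
    rw [← Finset.sum_filter, Finset.sum_const, nsmul_eq_mul]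
    congr 1
    unfold fixedPointCharacter
    rw [Nat.card_eq_fintype_card]
    norm_cast
    exact Fintype.card_subtype _
  have h2 : ∀ x : S ⧸ H, ∑ g : S, (if g • x = x then conj ((χ : S → ℂ) g) else 0) =
      ∑ h : H, conj ((χ : S → ℂ) h) := by
    intro x
    induction x using QuotientGroup.induction_on with
    | _ a =>
    rw [← Finset.sum_filter]
    symm
    refine Finset.sum_bij (fun h _ => a * (h : S) * a⁻¹) ?_ ?_ ?_ ?_
    · intro h _
      rw [Finset.mem_filter]
      refine ⟨Finset.mem_univ _, ?_⟩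
      show (QuotientGroup.mk (a * (h : S) * a⁻¹ * a) : S ⧸ H) = QuotientGroup.mk a
      rw [QuotientGroup.eq]
      have e : (a * (h : S) * a⁻¹ * a)⁻¹ * a = (h : S)⁻¹ := by group
      rw [e]
      exact inv_mem h.2
    · intro h _ h' _ e
      exact Subtype.ext (mul_left_cancel (mul_right_cancel e))
    · intro g hg
      have h3 : (QuotientGroup.mk (g * a) : S ⧸ H) = QuotientGroup.mk a := (Finset.mem_filter.1 hg).2
      rw [QuotientGroup.eq] at h3
      refine ⟨⟨a⁻¹ * g * a, ?_⟩, Finset.mem_univ _, by group⟩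
      have e : a⁻¹ * g * a = ((g * a)⁻¹ * a)⁻¹ := by group
      rw [e]
      exact inv_mem h3
    · intro h _
      rw [hcl (h : S) a]
  rw [Finset.sum_congr rfl fun g _ => h1 g, Finset.sum_comm, Finset.sum_congr rfl fun x _ => h2 x, Finset.sum_const,
    Finset.card_univ, nsmul_eq_mul, ← mul_assoc, ← Nat.card_eq_fintype_card (α := S ⧸ H)]
  congr 1
  have h3 : Nat.card S = Nat.card (S ⧸ H) * Nat.card H := Subgroup.card_eq_card_quotient_mul_card_subgroup H
  have h4 : (Nat.card H : ℂ) ≠ 0 := by exact_mod_cast Nat.card_pos.ne'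
  have h5 : (Nat.card (S ⧸ H) : ℂ) ≠ 0 := by exact_mod_cast Nat.card_pos.ne'
  rw [h3]
  push_cast
  field_simp

end Alias

end Cfsg.Agent.H139.RealB0.Crit

private theorem dce_565201ebaa5b : _root_.True := by
  try have : _root_.True := by simp only [_root_.Cfsg.Agent.H139.RealB0.Crit.bar.congr_simp]
  exact _root_.True.intro
end

-- part: H940/RatB/Count
section
set_option linter.all false
open scoped Cfsg.Agent.FastGrp

/-!
# A constituent of `p'`-degree of a permutation character in the principal block (helper940, TEAM B0-RAT, S4891)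

`exists_prime_degree`: if `p` divides the index of `H`, then some nontrivial member of the principal `p`-block of degree
prime to `p` is a constituent of the permutation character on the cosets of `H`.
-/

set_option autoImplicit false
set_option linter.unusedSectionVars false

open Cfsg
open scoped ComplexConjugate

namespace Cfsg.Agent.H940.RatB

open Cfsg.Agent.Characters.Core Cfsg.Agent.Blocks.Local Cfsg.Agent.H139.RealB0.Crit

universe u

variable {S : Type u} [Group S] [Finite S]

theorem charDegree_cast (χ : IrrCharacter S) : (χ : S → ℂ) 1 = (charDegree (χ : S → ℂ) : ℂ) := by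
  obtain ⟨n, -, hn⟩ := isIrr_apply_one χ.2
  have h : charDegree (χ : S → ℂ) = n := by
    unfold charDegree
    rw [hn]
    simp
  rw [h, hn]

/-- If `p` divides the index of `H` then a nontrivial member of degree prime to `p` of the principal block is a
constituent of the permutation character. -/
theorem exists_prime_degree_sum {p : ℕ} [hpp : Fact p.Prime] {M : Ideal AlgInt} (hM : IsPModular p M) (H : Subgroup S)
    [Fintype H] (hp : p ∣ H.index) :
    ∃ χ : IrrCharacter S, χ ∈ principalBlock M S ∧ ¬ p ∣ charDegree (χ : S → ℂ) ∧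
      ((χ : S → ℂ) ≠ fun _ => (1 : ℂ)) ∧ ∑ h : H, (χ : S → ℂ) h ≠ 0 := by
  classical
  by_contra hcon
  push Not at hcon
  have hMp : M.IsPrime := isPrime_of_isPModular hM
  have hB : IsPBlock M (principalBlock M S) := ⟨⟨_, isIrr_one⟩, rfl⟩
  have hfin : Finite (IrrCharacter S) := finite_irr
  have hft : Fintype (IrrCharacter S) := Fintype.ofFinite _
  set one : IrrCharacter S := ⟨fun _ => 1, isIrr_one⟩ with hone
  have hmem : one ∈ principalBlock M S := Cfsg.Agent.Blocks.Basic.sameBlock_refl _
  -- the multiplicities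
  have hmult : ∀ χ : IrrCharacter S, ∃ k : ℕ, (Nat.card H : ℂ)⁻¹ * ∑ h : H, conj ((χ : S → ℂ) h) = k := by
    intro χ
    have hS : Fintype S := Fintype.ofFinite S
    obtain ⟨k, hk⟩ := classInner_isNat (isCharacter_one (G := H)) (isCharacter_comp H.subtype (isIrr_isCharacter χ.2))
    refine ⟨k, ?_⟩
    rw [← hk, classInner_def]
    congr 1
    refine Finset.sum_congr rfl fun h _ => ?_
    show conj ((χ : S → ℂ) h) = 1 * conj ((χ : S → ℂ) h)
    rw [one_mul]
  choose k hk using hmult
  have hH0 : (Nat.card H : ℂ) ≠ 0 := by exact_mod_cast Nat.card_pos.ne'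
  have h1 : MemLocalRing M (∑ h : H, blockCoeff (principalBlock M S) (h : S)) :=
    memLocalRing_sum fun h _ => Cfsg.Agent.Blocks.Osima.memLocalRing_blockCoeff hM hB _
  let T : ℕ := ∑ χ : IrrCharacter S, if χ ∈ principalBlock M S then charDegree (χ : S → ℂ) * k χ else 0
  have h2 : ∑ h : H, blockCoeff (principalBlock M S) (h : S) = (H.index : ℂ)⁻¹ * (T : ℂ) := by
    have h3 : ∀ h : H, blockCoeff (principalBlock M S) (h : S) = (Nat.card S : ℂ)⁻¹ *
        ∑ χ : IrrCharacter S, if χ ∈ principalBlock M S then (χ : S → ℂ) 1 * conj ((χ : S → ℂ) h) else 0 :=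
      fun h => Cfsg.Agent.Blocks.Osima.blockCoeff_eq_sum _ _
    rw [Finset.sum_congr rfl fun h _ => h3 h, ← Finset.mul_sum, Finset.sum_comm]
    have h4 : ∀ χ : IrrCharacter S, (∑ h : H, if χ ∈ principalBlock M S then (χ : S → ℂ) 1 * conj ((χ : S → ℂ) h) else 0) =
        (Nat.card H : ℂ) * (((if χ ∈ principalBlock M S then charDegree (χ : S → ℂ) * k χ else 0 : ℕ)) : ℂ) := by
      intro χ
      by_cases hχB : χ ∈ principalBlock M S
      · simp only [if_pos hχB]
        rw [← Finset.mul_sum, Nat.cast_mul, ← hk, charDegree_cast]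
        field_simp
      · simp only [if_neg hχB]
        rw [Finset.sum_const_zero, Nat.cast_zero, mul_zero]
    rw [Finset.sum_congr rfl fun χ _ => h4 χ, ← Finset.mul_sum, ← Nat.cast_sum, ← mul_assoc]
    congr 1
    have h5 : (Nat.card S : ℂ) = (H.index : ℂ) * (Nat.card H : ℂ) := by
      rw [← Subgroup.index_mul_card H, Nat.cast_mul]
    rw [h5, mul_inv, mul_assoc, inv_mul_cancel₀ hH0, mul_one]
  rw [h2] at h1
  have h3 : MemLocalIdeal M (H.index : ℂ) := (memLocalIdeal_natCast_iff hM _).2 hp
  have h4 := memLocalIdeal_mul_left h1 h3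
  have h5 : (H.index : ℂ) ≠ 0 := by exact_mod_cast Subgroup.index_ne_zero_of_finite
  have h6 : (H.index : ℂ)⁻¹ * (T : ℂ) * (H.index : ℂ) = (T : ℂ) := by field_simp
  rw [h6] at h4
  have h7 : p ∣ T := (memLocalIdeal_natCast_iff hM _).1 h4
  -- all terms but one are divisible by `p`
  have h8 : T = 1 + ∑ χ ∈ Finset.univ.erase one,
      (if χ ∈ principalBlock M S then charDegree (χ : S → ℂ) * k χ else 0) := by
    show ∑ χ : IrrCharacter S, _ = _
    rw [← Finset.add_sum_erase Finset.univ _ (Finset.mem_univ one), if_pos hmem]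
    congr 1
    have h9 : charDegree (one : S → ℂ) = 1 := by
      have := charDegree_cast one
      have h10 : (one : S → ℂ) 1 = 1 := rfl
      rw [h10] at this
      exact_mod_cast this.symm
    have h10 : k one = 1 := by
      have h11 := hk one
      have h12 : ∑ h : H, conj ((one : S → ℂ) h) = (Nat.card H : ℂ) := by
        have : ∀ h : H, conj ((one : S → ℂ) h) = 1 := fun h => map_one _
        rw [Finset.sum_congr rfl fun h _ => this h, Finset.sum_const, Finset.card_univ, nsmul_eq_mul, mul_one,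
          ← Nat.card_eq_fintype_card]
      rw [h12, inv_mul_cancel₀ hH0] at h11
      exact_mod_cast h11.symm
    rw [h9, h10]
  have h9 : p ∣ ∑ χ ∈ Finset.univ.erase one,
      (if χ ∈ principalBlock M S then charDegree (χ : S → ℂ) * k χ else 0) := by
    refine Finset.dvd_sum fun χ hχ => ?_
    have hne : χ ≠ one := (Finset.mem_erase.1 hχ).1
    by_cases hχB : χ ∈ principalBlock M S
    · rw [if_pos hχB]
      by_cases hd : p ∣ charDegree (χ : S → ℂ)
      · exact Dvd.dvd.mul_right hd _
      · have h10 := hcon χ hχB hd (fun h => hne (Subtype.ext h))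
        have h11 : k χ = 0 := by
          have h12 := hk χ
          rw [← map_sum, h10, map_zero, mul_zero] at h12
          exact_mod_cast h12.symm
        rw [h11, mul_zero]
        exact dvd_zero _
    · rw [if_neg hχB]
      exact dvd_zero _
  rw [h8] at h7
  have h10 : p ∣ 1 := (Nat.dvd_add_left h9).1 h7
  exact hpp.out.one_lt.ne' (Nat.dvd_one.1 h10)

theorem exists_prime_degree {p : ℕ} [hpp : Fact p.Prime] {M : Ideal AlgInt} (hM : IsPModular p M) [Fintype S]
    (H : Subgroup S) (hp : p ∣ H.index) :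
    ∃ χ : IrrCharacter S, χ ∈ principalBlock M S ∧ ¬ p ∣ charDegree (χ : S → ℂ) ∧
      ((χ : S → ℂ) ≠ fun _ => (1 : ℂ)) ∧ classInner (fixedPointCharacter H) (χ : S → ℂ) ≠ 0 := by
  classical
  have hH : Fintype H := Fintype.ofFinite H
  obtain ⟨χ, h1, h2, h3, h4⟩ := exists_prime_degree_sum hM H hp
  refine ⟨χ, h1, h2, h3, ?_⟩
  rw [classInner_fixedPointCharacter, ← map_sum]
  refine mul_ne_zero (inv_ne_zero (by exact_mod_cast Nat.card_pos.ne')) ?_
  rw [map_ne_zero]
  exact h4

end Cfsg.Agent.H940.RatB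
end
end
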