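import Cfsg.Agent.H793.PC.Five
import Cfsg.Agent.H426.KB.C1_m3
import Cfsg.Agent.H793.PC.Pi_m3
import Cfsg.Agent.H712.GmnMin
import Cfsg.Agent.H825.HT.Tools
import Cfsg.Agent.H145.BR.Defs
import Cfsg.Agent.FastGrp
import Cfsg.Agent.Prune
set_option linter.all false

section
prune_inst 0x7fdfffff7feaf3ffffff7fbffff5dffff7eefffffffffffbfffdffdfffff6b7bffe7fbb7fffefaffdff7e3b6f4f87bd3ffffffffef67fdfffffdfff4dffbffdffdf6bd2d31ffbcbe1f7e6fff8bf37ffeffbfffffffffffffffffffffffffffffffffffffffff

-- part: H735/S4822/Prod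
section
prune_inst 0x2000000005080000008000000220000000000000000004000200000000948000080040000001000008084809070000000000001008000000020000000000000000029248000340c08100006000000100000000000000000000000000000000000000000000
set_option linter.all false
open scoped Cfsg.Agent.FastGrp

/-!
# Products of characters of principal blocks (helper735, for S4822)

* `pi_mem`: a product of members of the principal blocks of the factors is a member of the principal
  block of a direct product.
* `F_mem`: the same for the decomposition of a nonabelian minimal normal subgroup.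
-/

set_option autoImplicit false
set_option linter.unusedSectionVars false

namespace Cfsg.Agent.H735.S4822

open Cfsg Cfsg.Agent.Blocks Cfsg.Agent.Blocks.Local Cfsg.Agent.Characters.Core
  Cfsg.Agent.Lib.MinNormalNonabelian Cfsg.Agent.Lib.MinNormal Cfsg.Agent.H793.PC

universe u v

variable {M : Ideal AlgInt}

theorem memLocalRing_prod [M.IsPrime] {ι : Type*} (s : Finset ι) (a : ι → ℂ)
    (ha : ∀ i ∈ s, MemLocalRing M (a i)) : MemLocalRing M (∏ i ∈ s, a i) := by
  classical
  induction s using Finset.induction_on with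
  | empty => rw [Finset.prod_empty]; exact memLocalRing_one
  | insert j s hj ih =>
    rw [Finset.prod_insert hj]
    exact memLocalRing_mul (ha j (Finset.mem_insert_self _ _))
      (ih fun i hi => ha i (Finset.mem_insert_of_mem hi))

theorem memLocalIdeal_prod_sub [M.IsPrime] {ι : Type*} (s : Finset ι) (a b : ι → ℂ)
    (ha : ∀ i ∈ s, MemLocalRing M (a i)) (hb : ∀ i ∈ s, MemLocalRing M (b i))
    (h : ∀ i ∈ s, MemLocalIdeal M (a i - b i)) :
    MemLocalIdeal M (∏ i ∈ s, a i - ∏ i ∈ s, b i) := by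
  classical
  induction s using Finset.induction_on with
  | empty => rw [Finset.prod_empty, Finset.prod_empty, sub_self]; exact memLocalIdeal_zero
  | insert j s hj ih =>
    rw [Finset.prod_insert hj, Finset.prod_insert hj]
    have h1 : a j * ∏ i ∈ s, a i - b j * ∏ i ∈ s, b i =
        (∏ i ∈ s, a i) * (a j - b j) + b j * (∏ i ∈ s, a i - ∏ i ∈ s, b i) := by ring
    rw [h1]
    exact memLocalIdeal_add
      (memLocalIdeal_mul_left (memLocalRing_prod s a fun i hi => ha i (Finset.mem_insert_of_mem hi))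
        (h j (Finset.mem_insert_self _ _)))
      (memLocalIdeal_mul_left (hb j (Finset.mem_insert_self _ _))
        (ih (fun i hi => ha i (Finset.mem_insert_of_mem hi))
          (fun i hi => hb i (Finset.mem_insert_of_mem hi))
          (fun i hi => h i (Finset.mem_insert_of_mem hi))))

variable {ι : Type v} [Fintype ι] {A : ι → Type u} [∀ i, Group (A i)] [∀ i, Finite (A i)]

theorem index_centralizer_pi (x : ∀ i, A i) :
    (Subgroup.centralizer ({x} : Set (∀ i, A i))).index =
      ∏ i, (Subgroup.centralizer ({x i} : Set (A i))).index := by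
  classical
  have h1 : Subgroup.centralizer ({x} : Set (∀ i, A i)) =
      Subgroup.pi Set.univ fun i => Subgroup.centralizer ({x i} : Set (A i)) := by
    ext y
    rw [Subgroup.mem_centralizer_singleton_iff, Subgroup.mem_pi]
    constructor
    · intro h i _
      rw [Subgroup.mem_centralizer_singleton_iff]
      exact congrFun h i
    · intro h
      funext i
      exact Subgroup.mem_centralizer_singleton_iff.1 (h i (Set.mem_univ i))
  have h2 : Nat.card (Subgroup.centralizer ({x} : Set (∀ i, A i))) =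
      ∏ i, Nat.card (Subgroup.centralizer ({x i} : Set (A i))) := by
    rw [h1, card_pi']
  have h3 := Subgroup.card_mul_index (Subgroup.centralizer ({x} : Set (∀ i, A i)))
  have h4 : ∏ i, (Nat.card (Subgroup.centralizer ({x i} : Set (A i))) *
      (Subgroup.centralizer ({x i} : Set (A i))).index) = ∏ i, Nat.card (A i) :=
    Finset.prod_congr rfl fun i _ => Subgroup.card_mul_index _
  rw [Finset.prod_mul_distrib, ← h2, ← Nat.card_pi, ← h3] at h4
  exact (Nat.eq_of_mul_eq_mul_left Nat.card_pos h4).symm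

theorem centralChar_pi (f : ∀ i, A i → ℂ) (x : ∀ i, A i) :
    centralChar (fun x : ∀ i, A i => ∏ i, f i (x i)) x = ∏ i, centralChar (f i) (x i) := by
  unfold centralChar
  rw [index_centralizer_pi, Finset.prod_div_distrib, Finset.prod_mul_distrib, Nat.cast_prod]
  rfl

theorem pi_mem [M.IsPrime] (f : ∀ i, IrrCharacter (A i)) (hf : ∀ i, f i ∈ principalBlock M (A i)) :
    (⟨fun x => ∏ i, (f i : A i → ℂ) (x i), isIrr_pi fun i => (f i).2⟩ :
      IrrCharacter (∀ i, A i)) ∈ principalBlock M (∀ i, A i) := by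
  classical
  intro x
  have h1 : (fun _ : (∀ i, A i) => (1 : ℂ)) = fun x : (∀ i, A i) => ∏ i, (fun _ : A i => (1 : ℂ)) (x i) := by
    funext x
    rw [Finset.prod_const_one]
  rw [h1, centralChar_pi (fun i (_ : A i) => (1 : ℂ)), centralChar_pi (fun i => (f i : A i → ℂ))]
  refine memLocalIdeal_prod_sub _ _ _ (fun i _ => ?_) (fun i _ => ?_) (fun i _ => hf i (x i))
  · exact Blocks.Elementary.memLocalRing_centralChar isIrr_one (x i)
  · exact Blocks.Elementary.memLocalRing_centralChar (f i).2 (x i)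

variable {G : Type u} [Group G] [Finite G] {N : Subgroup G} (h : Dec N) [Fintype (minSet N)]

/-- The product character as an irreducible character. -/
noncomputable def FF (f : ∀ T : minSet N, IrrCharacter (T : Subgroup G)) : IrrCharacter N :=
  ⟨h.F fun T => (f T : ↥(T : Subgroup G) → ℂ), h.isIrr_F fun T => (f T).2⟩

theorem FF_mem [M.IsPrime] (f : ∀ T : minSet N, IrrCharacter (T : Subgroup G))
    (hf : ∀ T : minSet N, f T ∈ principalBlock M (T : Subgroup G)) : FF h f ∈ principalBlock M N := by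
  have h1 := H133.PB.mem_principalBlock_comp h.E.symm.toMonoidHom h.E.symm.surjective (pi_mem f hf)
  have h2 : ∀ a b : IrrCharacter N, (∀ x, a.1 x = b.1 x) → a ∈ principalBlock M N → b ∈ principalBlock M N :=
    fun a b hab ha => (Subtype.ext (funext hab) : a = b) ▸ ha
  refine h2 _ _ (fun x => ?_) h1
  exact Finset.prod_congr rfl fun T _ => rfl

end Cfsg.Agent.H735.S4822
end

-- part: H940/RatB/Theta
section
prune_inst 0x4000000000000000000000100000000000000000000000000000010000000000400200010000200002800000000009002000000000820040000020840000400000100001000140c800000400000000000000000000000000000000000000000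
set_option linter.all false
open scoped Cfsg.Agent.FastGrp

/-!
# (R4) of TEAM B0-RAT (S4891): the invariant witness of a nonabelian minimal normal subgroup (helper940)

`exists_theta` : the stub of tools/plans/S4891_red.lean.txt.
-/

set_option autoImplicit false
set_option linter.unusedSectionVars false

open Cfsg

namespace Cfsg.Agent.H940.RatB

open Cfsg.Agent.H663.GmnStep Cfsg.Agent.Characters.Core Cfsg.Agent.Characters.Clifford Cfsg.Agent.H145.BR Cfsg.Agent.H712 Cfsg.Agent.Blocks

universe u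

section fac

variable {G : Type u} [Group G] {N : Subgroup G} [hN : N.Normal] {m : ℕ} {T : Fin m → Subgroup G}

/-- the factor `T j` lies in the orbit of `T i₀` under `P` -/
def Reach (P : Subgroup G) (T : Fin m → Subgroup G) (i₀ j : Fin m) : Prop :=
  ∃ x : G, x ∈ P ∧ T j = (T i₀).map (MulAut.conj x).toMonoidHom

open Classical in
/-- the transported character of the factor `T j` -/
noncomputable def fac (P : Subgroup G) (T : Fin m → Subgroup G) (i₀ : Fin m) (θ : T i₀ → ℂ) (j : Fin m) : T j → ℂ :=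
  if h : Reach P T i₀ j then fun t => θ ((conjIso h.choose h.choose_spec.2).symm t) else fun _ => 1

theorem fac_of_not {P : Subgroup G} {i₀ : Fin m} {θ : T i₀ → ℂ} {j : Fin m} (h : ¬ Reach P T i₀ j) :
    fac P T i₀ θ j = fun _ => 1 := by
  rw [fac, dif_neg h]

theorem fac_conj {P : Subgroup G} {i₀ : Fin m} {θ : T i₀ → ℂ}
    (hinv : ∀ x ∈ P, ∀ s t : T i₀, (∀ y, y ∈ T i₀ ↔ x * y * x⁻¹ ∈ T i₀) → (s : G) = x * t * x⁻¹ → θ s = θ t)
    {j : Fin m} {x : G} (hx : x ∈ P) (hj : T j = (T i₀).map (MulAut.conj x).toMonoidHom) (s : T j) (t : T i₀)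
    (hst : (s : G) = x * t * x⁻¹) : fac P T i₀ θ j s = θ t := by
  have h : Reach P T i₀ j := ⟨x, hx, hj⟩
  rw [fac, dif_pos h]
  set y := h.choose with hy
  have hyP : y ∈ P := h.choose_spec.1
  have hyj : T j = (T i₀).map (MulAut.conj y).toMonoidHom := h.choose_spec.2
  have hmem : ∀ (z w : G), T j = (T i₀).map (MulAut.conj z).toMonoidHom → (w ∈ T i₀ ↔ z * w * z⁻¹ ∈ T j) := by
    intro z w hz
    rw [hz]
    constructor
    · intro hw
      exact ⟨w, hw, rfl⟩
    · rintro ⟨v, hv, hv'⟩
      have : v = w := (MulAut.conj z).injective hv'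
      exact this ▸ hv
  refine hinv (y⁻¹ * x) (P.mul_mem (P.inv_mem hyP) hx) _ _ (fun w => ?_) ?_
  · rw [hmem x w hj, hmem y (y⁻¹ * x * w * (y⁻¹ * x)⁻¹) hyj]
    have h1 : y * (y⁻¹ * x * w * (y⁻¹ * x)⁻¹) * y⁻¹ = x * w * x⁻¹ := by group
    rw [h1]
  · have h2 : (conjIso y hyj ((conjIso y hyj).symm s) : G) = y * ((conjIso y hyj).symm s : T i₀) * y⁻¹ :=
      conjIso_apply y hyj _
    rw [MulEquiv.apply_symm_apply, hst] at h2
    have h3 : (((conjIso y hyj).symm s : T i₀) : G) = y⁻¹ * (x * t * x⁻¹) * y := by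
      rw [h2]; group
    rw [h3]
    group

theorem map_conj_mul (A : Subgroup G) (a b : G) :
    (A.map (MulAut.conj b).toMonoidHom).map (MulAut.conj a).toMonoidHom =
      A.map (MulAut.conj (a * b)).toMonoidHom := by
  rw [Subgroup.map_map]
  congr 1
  ext x
  simp [MulAut.conj_apply, mul_assoc]

variable {e : N ≃* ∀ i, T i}

theorem fac_sg (hc : IsCoord e) {P : Subgroup G} {i₀ : Fin m} {θ : T i₀ → ℂ}
    (hinv : ∀ x ∈ P, ∀ s t : T i₀, (∀ y, y ∈ T i₀ ↔ x * y * x⁻¹ ∈ T i₀) → (s : G) = x * t * x⁻¹ → θ s = θ t)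
    {g : G} (hg : g ∈ P) (i : Fin m) (s : T i) :
    fac P T i₀ θ (hc.sg g i) (hc.ci g i s) = fac P T i₀ θ i s := by
  by_cases h : Reach P T i₀ i
  · obtain ⟨x, hx, hi⟩ := h
    have hs : (s : G) ∈ (T i₀).map (MulAut.conj x).toMonoidHom := hi ▸ s.2
    obtain ⟨t, ht, hts⟩ := hs
    have hts' : (s : G) = x * t * x⁻¹ := hts.symm
    rw [fac_conj hinv hx hi s ⟨t, ht⟩ hts']
    refine fac_conj hinv (P.mul_mem hg hx) ?_ _ ⟨t, ht⟩ ?_
    · rw [hc.T_sg, hi, map_conj_mul]
    · rw [hc.ci_coe, hts']; group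
  · have h' : ¬ Reach P T i₀ (hc.sg g i) := by
      rintro ⟨x, hx, hi⟩
      refine h ⟨g⁻¹ * x, P.mul_mem (P.inv_mem hg) hx, ?_⟩
      rw [← map_conj_mul, ← hi, hc.T_sg, map_conj_mul, inv_mul_cancel, map_one]
      exact (Subgroup.map_id _).symm
    rw [fac_of_not h, fac_of_not h']

/-- **the product character** of the orbit of a factor under `P`; `R` contains the values -/
theorem exists_prod_theta [Finite G] {p : ℕ} [hp : Fact p.Prime] {M : Ideal AlgInt} [M.IsPrime] (hc : IsCoord e)
    (P : Subgroup G) (i₀ : Fin m) (θ₀ : IrrCharacter (T i₀)) (hB : θ₀ ∈ principalBlock M (T i₀))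
    (hne : (θ₀ : T i₀ → ℂ) ≠ fun _ => 1) (hdeg : ¬ p ∣ charDegree (θ₀ : T i₀ → ℂ)) (R : Subring ℂ)
    (hR : ∀ t, (θ₀ : T i₀ → ℂ) t ∈ R)
    (hinv : ∀ x ∈ P, ∀ s t : T i₀, (∀ y, y ∈ T i₀ ↔ x * y * x⁻¹ ∈ T i₀) → (s : G) = x * t * x⁻¹ →
      (θ₀ : T i₀ → ℂ) s = (θ₀ : T i₀ → ℂ) t) :
    ∃ θ : IrrCharacter N, θ ∈ principalBlock M N ∧ (θ : N → ℂ) ≠ (fun _ => 1) ∧ ¬ p ∣ charDegree (θ : N → ℂ) ∧
      (∀ n, (θ : N → ℂ) n ∈ R) ∧
      ∀ g ∈ P, ∀ x : N, (θ : N → ℂ) (MulAut.conjNormal g x) = (θ : N → ℂ) x := by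
  classical
  have hfi : ∀ j, IsIrrCharacter (T j) (fac P T i₀ (θ₀ : T i₀ → ℂ) j) := by
    intro j
    by_cases h : Reach P T i₀ j
    · rw [fac, dif_pos h]
      exact isIrr_comp ((conjIso h.choose h.choose_spec.2).symm : T j →* T i₀) (MulEquiv.surjective _) θ₀.2
    · rw [fac_of_not h]
      exact Blocks.Basic.isIrrCharacter_one
  let f : ∀ j, IrrCharacter (T j) := fun j => ⟨_, hfi j⟩
  have hfB : ∀ j, f j ∈ principalBlock M (T j) := by
    intro j
    by_cases h : Reach P T i₀ j
    · have h1 := H133.PB.mem_principalBlock_comp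
        ((conjIso h.choose h.choose_spec.2).symm : T j →* T i₀) (MulEquiv.surjective _) hB
      have h2 : f j = ⟨(θ₀ : T i₀ → ℂ) ∘ ((conjIso h.choose h.choose_spec.2).symm : T j →* T i₀),
          isIrr_comp _ (MulEquiv.surjective _) θ₀.2⟩ := by
        apply Subtype.ext
        show fac P T i₀ (θ₀ : T i₀ → ℂ) j = _
        rw [fac, dif_pos h]
        rfl
      rw [h2]
      exact h1
    · have h2 : f j = ⟨fun _ => 1, Blocks.Basic.isIrrCharacter_one⟩ := by
        apply Subtype.ext
        exact fac_of_not h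
      rw [h2]
      exact Blocks.PrincipalSection.one_mem_principalBlock
  have hfd : ∀ j, ¬ p ∣ charDegree (f j : T j → ℂ) := by
    intro j
    by_cases h : Reach P T i₀ j
    · have h2 : charDegree (f j : T j → ℂ) = charDegree (θ₀ : T i₀ → ℂ) := by
        rw [Blocks.Basic.charDegree_def, Blocks.Basic.charDegree_def]
        have : (f j : T j → ℂ) 1 = (θ₀ : T i₀ → ℂ) 1 := by
          show fac P T i₀ (θ₀ : T i₀ → ℂ) j 1 = _
          rw [fac, dif_pos h, map_one]
        rw [this]
      rw [h2]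
      exact hdeg
    · have h2 : charDegree (f j : T j → ℂ) = 1 := by
        apply H672.charDegree_of_eq
        show fac P T i₀ (θ₀ : T i₀ → ℂ) j 1 = _
        rw [fac_of_not h, Nat.cast_one]
      rw [h2]
      exact hp.out.not_dvd_one
  have hfR : ∀ j t, (f j : T j → ℂ) t ∈ R := by
    intro j t
    show fac P T i₀ (θ₀ : T i₀ → ℂ) j t ∈ R
    by_cases h : Reach P T i₀ j
    · rw [fac, dif_pos h]
      exact hR _
    · rw [fac_of_not h]
      exact R.one_mem
  have hF := H133.PB.mem_principalBlock_comp (e : N →* ∀ i, T i) e.surjective (H735.S4822.pi_mem f hfB)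
  refine ⟨_, hF, ?_, ?_, ?_, ?_⟩
  · intro h1
    have hd1 : Dec e (fun _ : N => (1 : ℂ)) (fun i => (f i : T i → ℂ)) := by
      refine ⟨fun i => (f i).2, fun n => ?_⟩
      exact (congrFun h1 n).symm
    have hd2 : Dec e (fun _ : N => (1 : ℂ)) (fun i => fun _ : T i => (1 : ℂ)) := by
      refine ⟨fun i => Blocks.Basic.isIrrCharacter_one, fun n => ?_⟩
      rw [Finset.prod_const_one]
    have h2 := congrFun (hd1.unique hd2) i₀
    apply hne
    funext t
    have h3 : fac P T i₀ (θ₀ : T i₀ → ℂ) i₀ t = (θ₀ : T i₀ → ℂ) t :=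
      fac_conj hinv P.one_mem (by rw [map_one]; exact (Subgroup.map_id _).symm) t t (by group)
    rw [← h3]
    exact congrFun h2 t
  · have hd1 : Dec e (fun n : N => ∏ i, (f i : T i → ℂ) (e n i)) (fun i => (f i : T i → ℂ)) :=
      ⟨fun i => (f i).2, fun n => rfl⟩
    intro h1
    have h2 : charDegree (fun n : N => ∏ i, (f i : T i → ℂ) (e n i)) = ∏ i, charDegree (f i : T i → ℂ) := hd1.degree
    have h3 : p ∣ ∏ i, charDegree (f i : T i → ℂ) := h2 ▸ h1
    rw [Prime.dvd_finset_prod_iff hp.out.prime] at h3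
    obtain ⟨i, -, hi⟩ := h3
    exact hfd i hi
  · intro n
    show ∏ i, (f i : T i → ℂ) (e n i) ∈ R
    exact R.prod_mem fun i _ => hfR i _
  · intro g hg x
    show ∏ j, fac P T i₀ (θ₀ : T i₀ → ℂ) j (e (MulAut.conjNormal g x) j) = ∏ i, fac P T i₀ (θ₀ : T i₀ → ℂ) i (e x i)
    refine ((hc.sg_bij g).prod_comp (fun j => fac P T i₀ (θ₀ : T i₀ → ℂ) j (e (MulAut.conjNormal g x) j))).symm.trans ?_
    refine Finset.prod_congr rfl fun i _ => ?_
    rw [hc.coord, fac_sg hc hinv hg]

end fac

section main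

variable {p : ℕ} [hp : Fact p.Prime]

/-- **(R4)** -/
theorem exists_theta (hT : ∀ (S : Type u) [Group S] [Finite S], IsSimpleGroup S → (¬ ∀ a b : S, a * b = b * a) →
      p ∣ Nat.card S → Row p S) {M : Ideal AlgInt} (hM : IsPModular p M) {G : Type u} [Group G] [Finite G]
    (P : Sylow p G) (N : Subgroup G) [N.Normal] (hmin : ∀ K : Subgroup G, K.Normal → K ≤ N → K = ⊥ ∨ K = N)
    (hna : ¬ ∀ x ∈ N, ∀ y ∈ N, Commute x y) (hd : p ∣ Nat.card N) :
    (∃ θ : IrrCharacter N, Wit p M N θ ∧
      ∀ g ∈ (P : Subgroup G), ∀ x : N, (θ : N → ℂ) (MulAut.conjNormal g x) = (θ : N → ℂ) x) ∨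
    (∀ g ∈ N, ¬ p ∣ orderOf g → (∀ x ∈ (P : Subgroup G), g * x * g⁻¹ ∈ (P : Subgroup G)) → g = 1) := by
  classical
  have hMp : M.IsPrime := hM.2.1.isPrime
  obtain ⟨m, T, e, hm, hsimple, hnonab, hTinj, hTle, hTnorm, hperm, htrans, hsingle, hcomm⟩ :=
    PermutationGroups.OnanScott.exists_coordinates N hmin hna
  have hc : IsCoord e := ⟨hTinj, hTle, hTnorm, hperm, hsingle, hcomm⟩
  have hcard : ∀ i j, Nat.card (T i) = Nat.card (T j) := by
    intro i j
    obtain ⟨g, hg⟩ := htrans i j
    rw [hg, Subgroup.card_map_of_injective (MulAut.conj g).injective]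
  have hdT : ∀ i, p ∣ Nat.card (T i) := by
    intro i
    rw [Nat.card_congr e.toEquiv, Nat.card_pi, Prime.dvd_finset_prod_iff hp.out.prime] at hd
    obtain ⟨j, -, hj⟩ := hd
    rw [hcard i j]
    exact hj
  have hnab : ∀ i, ¬ ∀ a b : T i, a * b = b * a := by
    intro i h
    obtain ⟨a, b, hab⟩ := hnonab i
    exact hab (h a b)
  have hyp : ∀ i, GmnMin.Hyp N (T i) := fun i => ⟨inferInstance, hTle i, hTnorm i, hsimple i, hnab i⟩
  have hrow : ∀ i, RowA p (T i) (GmnMin.indT P (T i)) ∨
      ∀ g : T i, ¬ p ∣ orderOf g → (∀ a ∈ GmnMin.indT P (T i),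
        MulAut.conj g * a * (MulAut.conj g)⁻¹ ∈ GmnMin.indT P (T i)) → g = 1 := fun i =>
    hT (T i) (hsimple i) (hnab i) (hdT i) _ (GmnMin.isPGroup_indT P)
      ⟨GmnMin.sylT P (hyp i), fun x hx => GmnMin.conj_mem_indT P hx⟩
  by_cases hex : ∃ i, RowA p (T i) (GmnMin.indT P (T i))
  · left
    obtain ⟨i₀, hi₀⟩ := hex
    obtain ⟨θ₀, ⟨hB, hne, hdeg, n, hn, hrat⟩, hinv⟩ := hi₀ M hM
    obtain ⟨θ, h1, h2, h3, h4, h5⟩ := exists_prod_theta hc (P : Subgroup G) i₀ θ₀ hB hne hdeg
      (IntermediateField.adjoin ℚ ({Complex.exp (2 * Real.pi * Complex.I / n)} : Set ℂ)).toSubring hrat (by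
        intro x hx s t hxT hst
        have hxN : x ∈ Subgroup.normalizer (T i₀ : Set G) := Subgroup.mem_normalizer_iff.2 hxT
        have ha : (T i₀).normalizerMonoidHom ⟨x, hxN⟩ ∈ GmnMin.indT P (T i₀) := ⟨⟨x, hxN⟩, hx, rfl⟩
        have h1 := hinv _ ha t
        have h2 : (T i₀).normalizerMonoidHom ⟨x, hxN⟩ t = s := Subtype.ext hst.symm
        rwa [h2] at h1)
    exact ⟨θ, ⟨h1, h2, h3, n, hn, h4⟩, h5⟩
  · right
    push Not at hex
    intro g hgN hgp hgP
    set γ : N := ⟨g, hgN⟩ with hγ
    have hone : ∀ i, e γ i = 1 := by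
      intro i
      rcases hrow i with h | h
      · exact absurd h (hex i)
      · refine h (e γ i) (fun hdvd => hgp ?_) fun a ha => ?_
        · have h1 : orderOf (e γ i) ∣ orderOf γ := by
            have h2 := orderOf_map_dvd ((Pi.evalMonoidHom (fun i => T i) i).comp e.toMonoidHom) γ
            exact h2
          have h2 : orderOf γ = orderOf g := by
            rw [← Subgroup.orderOf_coe]
          exact h2 ▸ hdvd.trans h1
        · obtain ⟨x, hx, hxT, hax⟩ := (GmnMin.mem_indT P).1 ha
          have hgT : g ∈ Subgroup.normalizer (T i : Set G) := hTnorm i hgN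
          refine (GmnMin.mem_indT P).2 ⟨g * x * g⁻¹, hgP x hx,
            Subgroup.mul_mem _ (Subgroup.mul_mem _ hgT hxT) (Subgroup.inv_mem _ hgT), fun t => ?_⟩
          -- conjugation by the coordinate is conjugation by `g`
          have key : ∀ t : T i, ((e γ i : T i) : G) * t * ((e γ i : T i) : G)⁻¹ = g * t * g⁻¹ := by
            intro t
            have hij : T i = (T i).map (MulAut.conj g).toMonoidHom := by
              symm
              refine Subgroup.eq_of_le_of_card_ge ?_ ?_
              · rintro _ ⟨s, hs, rfl⟩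
                exact (Subgroup.mem_normalizer_iff.1 hgT s).1 hs
              · rw [Subgroup.card_map_of_injective (MulAut.conj g).injective]
            have h1 := coord_conj hc g i i hij (e.symm (Pi.mulSingle i t))
            have h2 : MulAut.conjNormal g (e.symm (Pi.mulSingle i t)) = γ * e.symm (Pi.mulSingle i t) * γ⁻¹ :=
              Subtype.ext (by rw [MulAut.conjNormal_apply]; rfl)
            rw [h2, map_mul, map_mul, map_inv, MulEquiv.apply_symm_apply, Pi.mul_apply, Pi.mul_apply, Pi.inv_apply,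
              Pi.mulSingle_eq_same] at h1
            exact h1
          set c : T i := e γ i with hcdef
          have h1 : ((MulAut.conj c * a * (MulAut.conj c)⁻¹) t : T i) = c * a (c⁻¹ * t * c) * c⁻¹ := by
            simp [MulAut.mul_apply, MulAut.conj_apply, MulAut.inv_def]
          have h2 := key (c⁻¹ * t * c)
          have h3 : (c : G) * ((c⁻¹ * t * c : T i) : G) * (c : G)⁻¹ = t := by
            rw [Subgroup.coe_mul, Subgroup.coe_mul, Subgroup.coe_inv]; group
          rw [h3] at h2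
          rw [h1, Subgroup.coe_mul, Subgroup.coe_mul, Subgroup.coe_inv, key (a (c⁻¹ * t * c)), hax, h2]
          group
    have h1 : e γ = 1 := funext hone
    have h2 : γ = 1 := e.injective (by rw [h1, map_one])
    exact congrArg Subtype.val h2

end main

end Cfsg.Agent.H940.RatB

private theorem dce_3bad2bb5bd8f : _root_.True := by
  try have : _root_.True := by simp only [_root_.Cfsg.Agent.H940.RatB.fac.eq_1]
  try have : _root_.True := by simp only [_root_.Cfsg.Agent.H663.GmnStep.conjIso.congr_simp]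
  exact _root_.True.intro
end
end
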